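import Groth.Prelude.Def_Curv2
import Groth.Prelude.Def_Brnch
import Mathlib.RingTheory.PowerSeries.Inverse
import Mathlib.RingTheory.Localization.FractionRing
import Mathlib.RingTheory.IntegralClosure.IntegrallyClosed
import Mathlib.RingTheory.LocalRing.Length

/-!
# The δ-invariant and the branches of a ring of tuples of series with common constant term
-/

set_option autoImplicit false
set_option linter.style.haveILetI false
noncomputable section

universe u

open PowerSeries

namespace Groth.Agent.Multicross5

variable {k : Type u} [Field k] {n : ℕ}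

/-- The tuples with a common constant term. -/
def eqConst (k : Type u) [Field k] (n : ℕ) : Set (Fin n → PowerSeries k) :=
  {f | ∀ i j, constantCoeff (f i) = constantCoeff (f j)}

variable {R : Type u} [CommRing R] {φ : R →+* (Fin n → PowerSeries k)}

theorem exists_of_const (hr : Set.range φ = eqConst k n) {f : Fin n → PowerSeries k}
    (hf : ∀ i j, constantCoeff (f i) = constantCoeff (f j)) : ∃ r, φ r = f := by
  have : f ∈ Set.range φ := hr ▸ hf
  exact this

open Classical in
theorem comp_ne_zero (hφ : Function.Injective φ) (hr : Set.range φ = eqConst k n) {s : R}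
    (hs : s ∈ nonZeroDivisors R) (i : Fin n) : φ s i ≠ 0 := by
  intro h0
  obtain ⟨u, hu⟩ := exists_of_const hr (f := fun j => if j = i then (X : PowerSeries k) else 0)
    (fun a b => by split_ifs <;> simp)
  have h : s * u = 0 := hφ (by
    rw [map_mul, map_zero, hu]
    funext j
    simp only [Pi.mul_apply, Pi.zero_apply]
    split_ifs with hj
    · subst hj; rw [h0, zero_mul]
    · rw [mul_zero])
  have h1 := congrFun (congrArg φ ((mem_nonZeroDivisors_iff.1 hs).1 u h)) i
  rw [hu, map_zero] at h1
  simp [X_ne_zero] at h1

/-- The tuples of fractions. -/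
abbrev Fr (k : Type u) [Field k] (n : ℕ) : Type u := Fin n → FractionRing (PowerSeries k)

/-- Tuples of series inside tuples of fractions. -/
def incl (k : Type u) [Field k] (n : ℕ) : (Fin n → PowerSeries k) →+* Fr k n :=
  RingHom.pi fun i => (algebraMap (PowerSeries k) (FractionRing (PowerSeries k))).comp (Pi.evalRingHom _ i)

theorem incl_injective : Function.Injective (incl k n) := fun _ _ h =>
  funext fun i => IsFractionRing.injective _ _ (congrFun h i)

theorem isUnit_incl (hφ : Function.Injective φ) (hr : Set.range φ = eqConst k n) (s : nonZeroDivisors R) :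
    IsUnit ((incl k n).comp φ s.1) :=
  IsUnit.of_mul_eq_one (fun i => ((incl k n).comp φ s.1 i)⁻¹) (funext fun i => mul_inv_cancel₀ fun h =>
    comp_ne_zero hφ hr s.2 i (IsFractionRing.injective _ (FractionRing (PowerSeries k)) (h.trans (map_zero _).symm)))

/-- The fraction ring inside tuples of fractions. -/
def fracHom (hφ : Function.Injective φ) (hr : Set.range φ = eqConst k n) : FractionRing R →+* Fr k n :=
  IsLocalization.lift (isUnit_incl hφ hr)

theorem fracHom_algebraMap (hφ : Function.Injective φ) (hr : Set.range φ = eqConst k n) (a : R) :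
    fracHom hφ hr (algebraMap R _ a) = incl k n (φ a) := IsLocalization.lift_eq _ a

theorem fracHom_injective (hφ : Function.Injective φ) (hr : Set.range φ = eqConst k n) :
    Function.Injective (fracHom hφ hr) := by
  refine (IsLocalization.lift_injective_iff _).2 fun x y => ⟨fun h => ?_, fun h => ?_⟩
  · exact congrArg ((incl k n).comp φ) (IsFractionRing.injective R (FractionRing R) h)
  · exact congrArg _ (hφ (incl_injective h))

open Classical in
theorem isIntegral_tuple (hr : Set.range φ = eqConst k n) (b : Fin n → PowerSeries k) : φ.IsIntegralElem b := by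
  letI := φ.toAlgebra
  show IsIntegral R b
  have he : ∀ i, IsIntegral R (Pi.single i 1 : Fin n → PowerSeries k) := fun i =>
    haveI : Nonempty (Fin n) := ⟨i⟩
    haveI := φ.domain_nontrivial
    ⟨Polynomial.X ^ 2 - Polynomial.X, Polynomial.monic_X_pow_sub (by
        rw [Polynomial.degree_X]; norm_num), by
      simp only [Polynomial.eval₂_sub, Polynomial.eval₂_X_pow, Polynomial.eval₂_X]
      rw [sub_eq_zero]
      funext j
      by_cases h : j = i
      · subst h; simp
      · simp [Pi.single_eq_of_ne h]⟩
  obtain ⟨r, hrb⟩ := exists_of_const hr (f := fun i => b i - C (constantCoeff (b i))) (fun a b => by simp)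
  choose c hc using fun i : Fin n => exists_of_const hr (f := fun _ => C (constantCoeff (b i))) (fun _ _ => rfl)
  have hb : b = algebraMap R _ r + ∑ i, algebraMap R _ (c i) * Pi.single i 1 := by
    simp only [RingHom.algebraMap_toAlgebra, hrb, hc]
    funext j
    simp [Finset.sum_apply, Pi.single_apply]
  rw [hb]
  exact isIntegral_algebraMap.add (IsIntegral.sum _ fun i _ => isIntegral_algebraMap.mul (he i))

section Iso

variable (hφ : Function.Injective φ) (hr : Set.range φ = eqConst k n)

include hφ hr

open Classical in
theorem exists_tuple {z : FractionRing R} (hz : IsIntegral R z) : ∃ b, incl k n b = fracHom hφ hr z := by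
  obtain ⟨p, hp, hpz⟩ := hz
  have : ∀ i, ∃ b : PowerSeries k, algebraMap _ (FractionRing (PowerSeries k)) b = fracHom hφ hr z i := by
    intro i
    refine IsIntegrallyClosed.isIntegral_iff.1 ⟨p.map ((Pi.evalRingHom _ i).comp φ), hp.map _, ?_⟩
    rw [Polynomial.eval₂_map]
    have h := congrArg ((Pi.evalRingHom _ i).comp (fracHom hφ hr)) hpz
    rw [map_zero, Polynomial.hom_eval₂] at h
    refine Eq.trans ?_ h
    congr 1
    refine RingHom.ext fun a => ?_
    show _ = fracHom hφ hr (algebraMap R _ a) i
    rw [fracHom_algebraMap]
    rfl
  choose b hb using this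
  exact ⟨b, funext hb⟩

open Classical in
theorem exists_integral (b : Fin n → PowerSeries k) :
    ∃ z : integralClosure R (FractionRing R), fracHom hφ hr z.1 = incl k n b := by
  obtain ⟨T, hT⟩ := exists_of_const hr (f := fun _ => (X : PowerSeries k)) (fun _ _ => rfl)
  obtain ⟨a, ha⟩ := exists_of_const hr (f := fun i => X * b i) (fun _ _ => by simp)
  have hTn : T ∈ nonZeroDivisors R := mem_nonZeroDivisors_iff_right.2 fun x hx => hφ (by
    rw [map_zero]
    funext i
    have h := congrFun (congrArg φ hx) i
    rw [map_mul, map_zero, hT] at h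
    exact (mul_eq_zero.1 h).resolve_right X_ne_zero)
  let z : FractionRing R := IsLocalization.mk' _ a ⟨T, hTn⟩
  have hz : fracHom hφ hr z = incl k n b := by
    have h := congrArg (fracHom hφ hr) (IsLocalization.mk'_spec (FractionRing R) a ⟨T, hTn⟩)
    rw [map_mul, fracHom_algebraMap, fracHom_algebraMap, hT, ha] at h
    funext i
    have hi := congrFun h i
    change fracHom hφ hr z i * algebraMap (PowerSeries k) (FractionRing (PowerSeries k)) X =
      algebraMap (PowerSeries k) (FractionRing (PowerSeries k)) (X * b i) at hi
    rw [map_mul, mul_comm (algebraMap _ _ (X : PowerSeries k))] at hi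
    exact mul_right_cancel₀ (fun e => X_ne_zero (IsFractionRing.injective _ (FractionRing (PowerSeries k))
      (e.trans (map_zero _).symm))) hi
  refine ⟨⟨z, ?_⟩, hz⟩
  obtain ⟨p, hp, hpb⟩ := isIntegral_tuple hr b
  refine ⟨p, hp, fracHom_injective hφ hr ?_⟩
  rw [map_zero, Polynomial.hom_eval₂, hz]
  have h := congrArg (incl k n) hpb
  rw [map_zero, Polynomial.hom_eval₂] at h
  refine Eq.trans ?_ h
  congr 1
  exact RingHom.ext fun x => fracHom_algebraMap hφ hr x

/-- The integral closure is the ring of all tuples. -/
theorem exists_closureEquiv : ∃ e : (Fin n → PowerSeries k) ≃+* integralClosure R (FractionRing R),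
    ∀ a, e (φ a) = algebraMap R _ a := by
  choose b hb using fun z : integralClosure R (FractionRing R) => exists_tuple hφ hr z.2
  choose z hz using exists_integral hφ hr
  refine ⟨{ toFun := z
            invFun := b
            left_inv := fun x => incl_injective ((hb (z x)).trans (hz x))
            right_inv := fun x => Subtype.ext (fracHom_injective hφ hr ((hz (b x)).trans (hb x)))
            map_mul' := fun x y => Subtype.ext (fracHom_injective hφ hr (by
              show fracHom hφ hr (z (x * y)).1 = fracHom hφ hr ((z x).1 * (z y).1)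
              rw [map_mul, hz, hz, hz, map_mul]))
            map_add' := fun x y => Subtype.ext (fracHom_injective hφ hr (by
              show fracHom hφ hr (z (x + y)).1 = fracHom hφ hr ((z x).1 + (z y).1)
              rw [map_add, hz, hz, hz, map_add])) }, fun a => ?_⟩
  refine Subtype.ext (fracHom_injective hφ hr ?_)
  show fracHom hφ hr (z (φ a)).1 = fracHom hφ hr (algebraMap R (FractionRing R) a)
  rw [hz, fracHom_algebraMap]

open Classical in
/-- The δ-invariant. -/
theorem deltaInv_add_one (hn : 0 < n) : Curv2.deltaInv R + 1 = n := by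
  obtain ⟨m, rfl⟩ : ∃ m, n = m + 1 := ⟨n - 1, by omega⟩
  obtain ⟨e, he⟩ := exists_closureEquiv hφ hr
  let c0 : R →+* k := (constantCoeff.comp (Pi.evalRingHom _ 0)).comp φ
  have hc0 : Function.Surjective c0 := fun x => by
    obtain ⟨r, hr'⟩ := exists_of_const hr (f := fun _ => C x) (fun _ _ => rfl)
    exact ⟨r, by show constantCoeff (φ r 0) = x; rw [hr', constantCoeff_C]⟩
  letI : Algebra R k := c0.toAlgebra
  let B := integralClosure R (FractionRing R)
  let L : B →ₗ[R] (Fin m → k) :=
    { toFun := fun z i => constantCoeff (e.symm z i.succ) - constantCoeff (e.symm z 0)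
      map_add' := fun x y => by funext i; simp only [map_add, Pi.add_apply]; ring
      map_smul' := fun r x => by
        funext i
        have hc : constantCoeff (φ r i.succ) = constantCoeff (φ r 0) :=
          (hr ▸ Set.mem_range_self r : φ r ∈ eqConst k (m + 1)) _ _
        have he' : e.symm (algebraMap R B r) = φ r := by rw [← he r, RingEquiv.symm_apply_apply]
        simp only [Algebra.smul_def, map_mul, he', Pi.mul_apply, hc,
          RingHom.id_apply, Pi.smul_apply, RingHom.algebraMap_toAlgebra]
        show _ = constantCoeff (φ r 0) * _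
        ring }
  have hL : Function.Surjective L := fun v => ⟨e (Fin.cons 0 fun i => C (v i)), by
    funext i; simp [L]⟩
  have hker : LinearMap.ker L = LinearMap.range (Algebra.linearMap R B) := by
    ext z
    constructor
    · intro hz
      obtain ⟨r, hr'⟩ := exists_of_const hr (f := e.symm z) (by
        have h0 : ∀ i, constantCoeff (e.symm z i) = constantCoeff (e.symm z 0) := by
          intro i
          refine Fin.cases rfl (fun j => ?_) i
          exact sub_eq_zero.1 (congrFun (LinearMap.mem_ker.1 hz) j)
        exact fun a b => (h0 a).trans (h0 b).symm)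
      refine ⟨r, ?_⟩
      rw [Algebra.linearMap_apply, ← he, hr', RingEquiv.apply_symm_apply]
    · rintro ⟨r, rfl⟩
      refine LinearMap.mem_ker.2 (funext fun i => sub_eq_zero.2 ?_)
      rw [Algebra.linearMap_apply, ← he, RingEquiv.symm_apply_apply]
      exact (hr ▸ Set.mem_range_self r : φ r ∈ eqConst k (m + 1)) _ _
  have hlen : Curv2.deltaInv R = m := by
    show Module.length R (B ⧸ LinearMap.range (Algebra.linearMap R B)) = m
    rw [← hker, (L.quotKerEquivOfSurjective hL).length_eq, Module.length_eq_of_surjective (R := k) hc0,
      Module.length_eq_finrank, Module.finrank_fin_fun]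
  rw [hlen]; norm_num

omit hφ hr in
open Classical in
/-- The maximal ideals of the ring of tuples. -/
theorem card_maximalSpectrum : ENat.card (MaximalSpectrum (Fin n → PowerSeries k)) = n := by
  let ev : Fin n → ((Fin n → PowerSeries k) →+* k) := fun i => constantCoeff.comp (Pi.evalRingHom _ i)
  have hev : ∀ i, Function.Surjective (ev i) := fun i x => ⟨fun _ => C x, constantCoeff_C x⟩
  let F : Fin n → MaximalSpectrum (Fin n → PowerSeries k) := fun i =>
    ⟨RingHom.ker (ev i), RingHom.ker_isMaximal_of_surjective _ (hev i)⟩
  have hF : Function.Bijective F := by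
    refine ⟨fun i j h => ?_, fun M => ?_⟩
    · by_contra hne
      have : Pi.single j (1 : PowerSeries k) ∈ (F i).asIdeal := by
        show constantCoeff ((Pi.single j (1 : PowerSeries k) : Fin n → PowerSeries k) i) = 0
        rw [Pi.single_eq_of_ne hne, map_zero]
      rw [h] at this
      have h2 : constantCoeff ((Pi.single j (1 : PowerSeries k) : Fin n → PowerSeries k) j) = 0 := this
      simp at h2
    · obtain ⟨i, hi⟩ : ∃ i, Pi.single i (1 : PowerSeries k) ∉ M.asIdeal := by
        by_contra hall
        push Not at hall
        refine M.isMaximal.ne_top ((Ideal.eq_top_iff_one _).2 ?_)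
        rw [← Finset.univ_sum_single (1 : Fin n → PowerSeries k)]
        exact Ideal.sum_mem _ fun i _ => hall i
      refine ⟨i, MaximalSpectrum.ext (M.isMaximal.eq_of_le (RingHom.ker_ne_top _) fun f hf => ?_).symm⟩
      show constantCoeff (f i) = 0
      by_contra hne
      obtain ⟨v, hv⟩ := (isUnit_iff_constantCoeff.2 (isUnit_iff_ne_zero.2 hne) : IsUnit (f i)).exists_left_inv
      refine hi ?_
      have h : Pi.single i (1 : PowerSeries k) = Pi.single i v * f := by
        funext j
        by_cases h : j = i
        · subst h; simp [hv]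
        · simp [Pi.single_eq_of_ne h]
      rw [h]
      exact Ideal.mul_mem_left _ _ hf
  rw [← ENat.card_congr (Equiv.ofBijective F hF)]
  simp

/-- The number of branches. -/
theorem numBranches_eq [IsLocalRing R] [IsNoetherianRing R] : Brnch.numBranches R = n := by
  haveI : _root_.IsReduced R := isReduced_of_injective φ hφ
  obtain ⟨e, -⟩ := exists_closureEquiv hφ hr
  have hred : nilradical R = ⊥ := nilradical_eq_zero R
  let r : R ≃+* CAlg2.red R := (RingEquiv.quotientBot R).symm.trans (Ideal.quotEquivOfEq hred.symm)
  have hrinj : Function.Injective (Ideal.Quotient.mk (nilradical R)) := r.injective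
  let φ' : CAlg2.red R →+* (Fin n → PowerSeries k) := φ.comp r.symm.toRingHom
  obtain ⟨e', -⟩ := exists_closureEquiv (φ := φ') (hφ.comp r.symm.injective) (by
    rw [show (φ' : CAlg2.red R → _) = φ ∘ r.symm from rfl, r.symm.surjective.range_comp]; exact hr)
  unfold Brnch.numBranches
  rw [if_pos (minimalPrimes.finite_of_isNoetherianRing R)]
  have eM : MaximalSpectrum (Fin n → PowerSeries k) ≃ MaximalSpectrum (CAlg2.normRed R) :=
    { toFun := fun M => ⟨M.asIdeal.map e'.toRingHom, Ideal.map_isMaximal_of_equiv e'⟩
      invFun := fun m => ⟨m.asIdeal.comap e'.toRingHom, Ideal.comap_isMaximal_of_surjective _ e'.surjective⟩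
      left_inv := fun M => MaximalSpectrum.ext (Ideal.comap_map_of_bijective _ e'.bijective)
      right_inv := fun m => MaximalSpectrum.ext (Ideal.map_comap_of_surjective _ e'.surjective _) }
  rw [← ENat.card_congr eM, card_maximalSpectrum]

end Iso

end Groth.Agent.Multicross5
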