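import Groth.Agent.Lib.Multicross5.Ring
import Groth.Agent.Lib.Multicross5.Delta
import Groth.Agent.Lib.GeomReg18.Smooth
import Groth.Agent.Lib.FSC5.Ess
import Groth.Agent.Lib.NormFin18.Apps
import Groth.Agent.Lib.CurveNF.Dim
import Groth.Agent.Lib.VarDim.Irred
import Groth.Agent.S9241
import Groth.Agent.S7654
import Groth.Agent.S7653

/-!
# Multicross points and nodes of curves
-/

set_option autoImplicit false
set_option linter.style.haveILetI false
set_option backward.isDefEq.respectTransparency false
set_option backward.isDefEq.respectTransparency.types false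
noncomputable section

universe u

open CategoryTheory CategoryTheory.Limits AlgebraicGeometry

namespace Groth.Agent.Multicross5

attribute [local instance] Curv2.stalkAlgebra

variable {k : Type u} [Field k] {X : Scheme.{u}} [X.Over (Spec (CommRingCat.of k))]
  [LocallyOfFiniteType (X ↘ Spec (CommRingCat.of k))]

variable (k) in
include k in
theorem isNagata_stalk (x : X) : CAlg.IsNagata (X.presheaf.stalk x) := by
  haveI := GeomReg18.essFiniteType_stalk k X x
  exact FSC5.isNagata_of_essFiniteType k _ (NormFin18.isNagata_of_finiteType k k)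

variable (k) in
include k in
theorem dim_stalk_eq_one (hequi : ∀ Z ∈ irreducibleComponents (X : Type u), topologicalKrullDim Z = 1)
    {x : X} (hx : IsClosed ({x} : Set X)) : ringKrullDim (X.presheaf.stalk x) = 1 := by
  refine CurveNF.ringKrullDim_stalk_eq_one_of_maximal (X ↘ Spec (CommRingCat.of k)) (fun g hg => ?_) (fun y => ?_) hx
  · have h := hequi _ ((VarDim.maximal_iff_mem_irreducibleComponents g).1 hg)
    rw [VarDim.dim_closure_singleton (X ↘ Spec (CommRingCat.of k)) g] at h
    exact_mod_cast h
  · obtain ⟨g, hg, hgm⟩ := VarDim.exists_generic_of_mem_irreducibleComponents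
      (irreducibleComponent_mem_irreducibleComponents y)
    exact ⟨g, specializes_iff_mem_closure.2 (by rw [hg]; exact mem_irreducibleComponent), hgm⟩

variable (k) in
/-- A local ring whose completion is a multicross. -/
theorem multicross {A : Type u} [CommRing A] [IsLocalRing A] [_root_.IsReduced A] (hN : CAlg.IsNagata A)
    (hdim : ringKrullDim A = 1) (n : ℕ)
    (e : Curv2.cpl A ≃+* MvPowerSeries (Fin n) k ⧸ mcIdeal k n) :
    Brnch.numBranches A = n ∧ Curv2.deltaInv A + 1 = n := by
  haveI : IsNoetherianRing A := hN.1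
  haveI : IsNoetherianRing (Curv2.cpl A) := CplLocH7.isNoetherianRing_cpl A
  rcases Nat.eq_zero_or_pos n with rfl | hn
  · exfalso
    have hd : ringKrullDim (Curv2.cpl A) = 1 := (S0547.result A).trans hdim
    have hbot : mcIdeal k 0 = ⊥ := by
      rw [Ideal.span_eq_bot]; rintro _ ⟨i, -⟩; exact i.elim0
    have hf : IsField (MvPowerSeries (Fin 0) k) := by
      refine ⟨⟨0, 1, zero_ne_one⟩, mul_comm, fun {a} ha => ?_⟩
      have hu : IsUnit (MvPowerSeries.constantCoeff a) := isUnit_iff_ne_zero.2 fun h => ha (MvPowerSeries.ext fun m => by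
        obtain rfl : m = 0 := Finsupp.ext fun i => i.elim0
        simpa using h)
      exact (MvPowerSeries.isUnit_iff_constantCoeff.2 hu).exists_right_inv
    have hf' : IsField (Curv2.cpl A) :=
      ((e.trans (Ideal.quotEquivOfEq hbot)).trans (RingEquiv.quotientBot _)).toMulEquiv.isField hf
    rw [ringKrullDim_eq_zero_of_isField hf'] at hd
    exact zero_ne_one hd
  let φ : Curv2.cpl A →+* (Fin n → PowerSeries k) := (mc k n).comp e.toRingHom
  have hφ : Function.Injective φ := (mc_injective k n hn).comp e.injective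
  have hr : Set.range φ = eqConst k n := by
    rw [show (φ : Curv2.cpl A → _) = mc k n ∘ e from rfl, e.surjective.range_comp]; exact mc_range k n hn
  exact ⟨(S9241.result A hdim).1.symm.trans (numBranches_eq hφ hr),
    (congrArg (· + 1) (S7654.result A hN hdim).2.2.symm).trans (deltaInv_add_one hφ hr hn)⟩

/-- The δ-invariant of a node is one. -/
theorem deltaInv_node [IsAlgClosed k] [AlgebraicGeometry.IsReduced X] {x : X} (h : Curv2.IsNode k X x)
    (hdim : ringKrullDim (X.presheaf.stalk x) = 1) : Curv2.deltaInv (X.presheaf.stalk x) = 1 := by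
  obtain ⟨-, xb, rfl, e, -⟩ := h
  let K := AlgebraicClosure k
  haveI : IsIso (CommRingCat.ofHom (algebraMap k K)) :=
    (ConcreteCategory.isIso_iff_bijective _).2
      (IsAlgClosed.algebraMap_bijective_of_isIntegral (k := k) (K := K))
  haveI : IsIso (Curv2.bcFst k X K) := inferInstanceAs (IsIso (pullback.fst _ _))
  let st := (asIso ((Curv2.bcFst k X K).stalkMap xb)).commRingCatIsoToRingEquiv
  let L := (Curv2.bc k X K).presheaf.stalk xb
  haveI : LocallyOfFiniteType (Curv2.bcSnd k X K) := inferInstanceAs (LocallyOfFiniteType (pullback.snd _ _))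
  letI : (Curv2.bc k X K).Over (Spec (CommRingCat.of K)) := ⟨Curv2.bcSnd k X K⟩
  haveI : LocallyOfFiniteType (Curv2.bc k X K ↘ Spec (CommRingCat.of K)) := inferInstanceAs (LocallyOfFiniteType (Curv2.bcSnd k X K))
  have hNL : CAlg.IsNagata L := isNagata_stalk K (X := Curv2.bc k X K) xb
  haveI : _root_.IsReduced L := isReduced_of_injective st.symm st.symm.injective
  have hdL : ringKrullDim L = 1 := (ringKrullDim_eq_of_ringEquiv st).symm.trans hdim
  have hI : Ideal.span {(MvPowerSeries.X 0 * MvPowerSeries.X 1 : MvPowerSeries (Fin 2) K)} = mcIdeal K 2 := by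
    refine le_antisymm (Ideal.span_le.2 ?_) (Ideal.span_le.2 ?_)
    · rintro _ rfl; exact Ideal.subset_span ⟨0, 1, by decide, rfl⟩
    · rintro _ ⟨i, j, hne, rfl⟩
      fin_cases i <;> fin_cases j <;> first
        | exact absurd rfl hne
        | exact Ideal.subset_span rfl
        | exact Ideal.subset_span (mul_comm _ _)
  have h1 := (multicross K hNL hdL 2 (e.trans (Ideal.quotEquivOfEq hI))).2
  have hL1 : Curv2.deltaInv L = 1 := by
    rw [show ((2 : ℕ) : ℕ∞) = 1 + 1 from rfl] at h1
    exact ENat.addLECancellable_of_ne_top ENat.one_ne_top |>.inj.1 (by rwa [add_comm, add_comm (1 : ℕ∞)] at h1 ⊢)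
  letI : Algebra L (X.presheaf.stalk ((Curv2.bcFst k X K) xb)) := st.symm.toRingHom.toAlgebra
  haveI : IsLocalHom (algebraMap L (X.presheaf.stalk ((Curv2.bcFst k X K) xb))) :=
    ⟨fun a ha => by simpa [RingHom.algebraMap_toAlgebra] using ha.map st⟩
  haveI : Module.Flat L (X.presheaf.stalk ((Curv2.bcFst k X K) xb)) :=
    RingHom.Flat.of_bijective (f := st.symm.toRingHom) st.symm.bijective
  haveI : IsNoetherianRing (X.presheaf.stalk ((Curv2.bcFst k X K) xb)) := (isNagata_stalk k _).1
  haveI : Algebra.IsSeparable (IsLocalRing.ResidueField L)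
      (IsLocalRing.ResidueField (X.presheaf.stalk ((Curv2.bcFst k X K) xb))) := ⟨fun y => by
    obtain ⟨a, rfl⟩ := IsLocalRing.residue_surjective y
    obtain ⟨b, rfl⟩ := st.symm.surjective a
    exact isSeparable_algebraMap (IsLocalRing.residue L b)⟩
  rw [DeltaBC3.deltaInv_eq L (X.presheaf.stalk ((Curv2.bcFst k X K) xb)) hNL hdL ?_, hL1]
  refine le_antisymm (Ideal.map_le_iff_le_comap.2 fun a ha => ?_) fun a ha => ?_
  · exact fun hu => ha (isUnit_of_map_unit _ a hu)
  · rw [← st.symm_apply_apply a]
    exact Ideal.mem_map_of_mem _ (fun hu => ha (st.symm_apply_apply a ▸ hu.map st.symm))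

end Groth.Agent.Multicross5
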