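import Mathlib.RingTheory.MvPowerSeries.Rename
import Mathlib.RingTheory.PowerSeries.Inverse
import Mathlib.RingTheory.Ideal.Quotient.Operations

/-!
# The multicross ring as a ring of tuples of power series
-/

set_option autoImplicit false
noncomputable section

universe u

open MvPowerSeries Finsupp

namespace Groth.Agent.Multicross5

variable (k : Type u) [Field k] (n : ℕ)

/-- The ideal of the products of two distinct variables. -/
abbrev mcIdeal : Ideal (MvPowerSeries (Fin n) k) :=
  Ideal.span {f : MvPowerSeries (Fin n) k | ∃ i j : Fin n, i ≠ j ∧ f = X i * X j}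

/-- The `i`-th axis. -/
def axis (i : Fin n) : Unit ↪ Fin n := ⟨fun _ => i, Function.injective_of_subsingleton _⟩

/-- Restriction to the axes. -/
noncomputable def toAxes : MvPowerSeries (Fin n) k →+* (Fin n → PowerSeries k) :=
  RingHom.pi fun i => (killCompl (R := k) (axis n i)).toRingHom

theorem coeff_toAxes (f : MvPowerSeries (Fin n) k) (i : Fin n) (m : ℕ) :
    PowerSeries.coeff m (toAxes k n f i) = coeff (single i m) f := by
  show coeff (single () m) (killCompl (axis n i) f) = _
  rw [coeff_killCompl, embDomain_single]
  rfl

theorem toAxes_C (c : k) : toAxes k n (C c) = fun _ => algebraMap k (PowerSeries k) c := by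
  funext i
  show killCompl (axis n i) (C c) = _
  rw [killCompl_C]
  rfl

theorem mcIdeal_le : mcIdeal k n ≤ RingHom.ker (toAxes k n) := by
  rw [Ideal.span_le]
  rintro _ ⟨i, j, hne, rfl⟩
  rw [SetLike.mem_coe, RingHom.mem_ker]
  funext a
  show killCompl (R := k) (axis n a) (X i * X j) = 0
  rw [map_mul]
  by_cases h : a = i
  · rw [killCompl_X_eq_zero (t := j) (by rintro ⟨_, e⟩; exact hne (h.symm.trans e)), mul_zero]
  · rw [killCompl_X_eq_zero (t := i) (by rintro ⟨_, e⟩; exact h e), zero_mul]

open Classical in
theorem mem_mcIdeal_of_axes {f : MvPowerSeries (Fin n) k} (hf : toAxes k n f = 0) (h0 : coeff 0 f = 0) :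
    f ∈ mcIdeal k n := by
  have hax : ∀ i m, coeff (single i m) f = 0 := fun i m => by rw [← coeff_toAxes, hf]; simp
  -- a chosen pair of variables dividing each mixed monomial
  let S : (Fin n →₀ ℕ) → Fin n × Fin n → Prop := fun m p =>
    p.1 ≠ p.2 ∧ single p.1 1 + single p.2 1 ≤ m
  let ch : (Fin n →₀ ℕ) → Option (Fin n × Fin n) := fun m => if h : ∃ p, S m p then some h.choose else none
  let e : Fin n × Fin n → (Fin n →₀ ℕ) := fun p => single p.1 1 + single p.2 1
  let g : Fin n × Fin n → MvPowerSeries (Fin n) k := fun p m =>
    if ch (m + e p) = some p then coeff (m + e p) f else 0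
  have hsum : f = ∑ p : Fin n × Fin n, monomial (e p) 1 * g p := by
    refine MvPowerSeries.ext fun m => ?_
    rw [map_sum]
    simp only [coeff_monomial_mul, one_mul]
    have hg : ∀ p, (if e p ≤ m then coeff (m - e p) (g p) else 0) =
        if ch m = some p then coeff m f else 0 := fun p => by
      by_cases hle : e p ≤ m
      · rw [if_pos hle]
        show (if ch (m - e p + e p) = some p then coeff (m - e p + e p) f else 0) = _
        rw [tsub_add_cancel_of_le hle]
      · rw [if_neg hle, if_neg]
        intro h
        simp only [ch] at h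
        split_ifs at h with he
        exact hle ((Option.some_injective _ h) ▸ he.choose_spec.2)
    simp only [hg]
    by_cases he : ∃ p, S m p
    · rw [Finset.sum_eq_single he.choose (fun p _ hp => if_neg fun h => hp (by
        simp only [ch, dif_pos he] at h; exact (Option.some_injective _ h).symm))
        (fun h => (h (Finset.mem_univ _)).elim), if_pos (by simp only [ch, dif_pos he])]
    · rw [Finset.sum_eq_zero fun p _ => if_neg (by simp only [ch, dif_neg he]; simp)]
      by_cases hm : m = 0
      · rw [hm]; exact h0
      obtain ⟨i, hi⟩ : ∃ i, m i ≠ 0 := by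
        by_contra h; push Not at h; exact hm (Finsupp.ext h)
      suffices m = single i (m i) by rw [this]; exact hax _ _
      refine Finsupp.ext fun j => ?_
      by_cases hj : j = i
      · subst hj; simp
      rw [single_eq_of_ne hj]
      by_contra hj0
      refine he ⟨(i, j), Ne.symm hj, fun a => ?_⟩
      by_cases h1 : a = i
      · subst h1; simp [single_eq_of_ne (Ne.symm hj)]; omega
      by_cases h2 : a = j
      · subst h2; simp [single_eq_of_ne hj]; omega
      simp [single_eq_of_ne h1, single_eq_of_ne h2]
  rw [hsum]
  refine Ideal.sum_mem _ fun p _ => ?_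
  by_cases hp : p.1 = p.2
  · suffices g p = 0 by rw [this, mul_zero]; exact Ideal.zero_mem _
    funext m
    show (if ch (m + e p) = some p then coeff (m + e p) f else 0) = 0
    refine if_neg fun h => ?_
    simp only [ch] at h
    split_ifs at h with he
    exact he.choose_spec.1 ((Option.some_injective _ h).symm ▸ hp)
  · refine Ideal.mul_mem_right _ _ (Ideal.subset_span ⟨p.1, p.2, hp, ?_⟩)
    rw [X, X, monomial_mul_monomial, one_mul]

/-- The map from the multicross ring to tuples of series. -/
noncomputable def mc : MvPowerSeries (Fin n) k ⧸ mcIdeal k n →+* (Fin n → PowerSeries k) :=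
  Ideal.Quotient.lift _ (toAxes k n) fun f hf => mcIdeal_le k n hf

theorem mc_C (c : k) : mc k n (Ideal.Quotient.mk _ (C c)) = fun _ => algebraMap k (PowerSeries k) c :=
  toAxes_C k n c

theorem mc_injective (hn : 0 < n) : Function.Injective (mc k n) := by
  refine (injective_iff_map_eq_zero _).2 fun x hx => ?_
  obtain ⟨f, rfl⟩ := Ideal.Quotient.mk_surjective x
  have hf : toAxes k n f = 0 := hx
  refine Ideal.Quotient.eq_zero_iff_mem.2 (mem_mcIdeal_of_axes k n hf ?_)
  have h := coeff_toAxes k n f ⟨0, hn⟩ 0
  rw [hf, single_zero] at h
  simpa using h.symm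

open Classical in
theorem mc_range (hn : 0 < n) : Set.range (mc k n) =
    {f : Fin n → PowerSeries k | ∀ i j, PowerSeries.constantCoeff (f i) = PowerSeries.constantCoeff (f j)} := by
  ext g
  constructor
  · rintro ⟨x, rfl⟩ i j
    obtain ⟨f, rfl⟩ := Ideal.Quotient.mk_surjective x
    show PowerSeries.constantCoeff (toAxes k n f i) = PowerSeries.constantCoeff (toAxes k n f j)
    rw [← PowerSeries.coeff_zero_eq_constantCoeff_apply, ← PowerSeries.coeff_zero_eq_constantCoeff_apply,
      coeff_toAxes, coeff_toAxes, single_zero, single_zero]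
  · intro hg
    let f : MvPowerSeries (Fin n) k := fun m =>
      if h : ∃ i, m = single i (m i) then PowerSeries.coeff (m h.choose) (g h.choose) else 0
    refine ⟨Ideal.Quotient.mk _ f, funext fun i => PowerSeries.ext fun m => ?_⟩
    show PowerSeries.coeff m (toAxes k n f i) = _
    rw [coeff_toAxes]
    have he : ∃ j, single i m = single j (single i m j) := ⟨i, by simp⟩
    show (if h : ∃ j, single i m = single j (single i m j) then _ else 0) = _
    rw [dif_pos he]
    by_cases hm : m = 0
    · subst hm
      simp only [single_zero, Finsupp.coe_zero, Pi.zero_apply]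
      rw [PowerSeries.coeff_zero_eq_constantCoeff_apply, PowerSeries.coeff_zero_eq_constantCoeff_apply]
      exact hg _ _
    · have hi : he.choose = i := by
        have h := DFunLike.congr_fun he.choose_spec i
        by_contra hne
        rw [single_eq_same, single_eq_of_ne (Ne.symm hne)] at h
        exact hm h
      rw [hi, single_eq_same]

end Groth.Agent.Multicross5
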